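import Cfsg.Agent.Lib.Grp.M24Aut.Star
import Cfsg.Agent.Lib.Block.FischerTypes.M24Group

/-! An automorphism of the derived group extends to the whole group, keeping the class. -/

set_option autoImplicit false
set_option linter.style.haveILetI false
set_option linter.unusedSectionVars false
set_option maxHeartbeats 1000000

namespace Cfsg.Agent.Grp.M24Aut

open Cfsg Cfsg.Agent.Spor.ThreeTrans Cfsg.Agent.Block.FischerTypes

variable {G : Type*} [Group G] [Finite G] {D : Set G}
variable (B : M24.Base D)
include B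

/-- Pairs generate the derived group. -/
theorem closure_pairs : Subgroup.closure {x : ↥(commutator G) | IsP x} = ⊤ := by
  haveI := M24.commutator_simple B (nonempty B)
  set T := Subgroup.closure {x : ↥(commutator G) | IsP x}
  have hn : T.Normal := ⟨fun x hx g => by
    induction hx using Subgroup.closure_induction with
    | mem y hy => exact Subgroup.subset_closure (isP_map (MulAut.conj g) hy)
    | one => simp
    | mul y z _ _ iy iz =>
      rw [show g * (y * z) * g⁻¹ = g * y * g⁻¹ * (g * z * g⁻¹) by group]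
      exact mul_mem iy iz
    | inv y _ iy =>
      rw [show g * y⁻¹ * g⁻¹ = (g * y * g⁻¹)⁻¹ by group]
      exact inv_mem iy⟩
  refine hn.eq_bot_or_eq_top.resolve_left fun hbot => ?_
  obtain ⟨d, hd⟩ := nonempty B
  obtain ⟨e, he⟩ := B.set.perp_ne d hd
  have hP := pair_isP B hd he
  have : (⟨d * e, pair_mem B hd he⟩ : ↥(commutator G)) = 1 :=
    Subgroup.mem_bot.1 (hbot.le (Subgroup.subset_closure hP))
  rw [IsP, this, orderOf_one] at hP
  omega

variable (α : MulAut ↥(commutator G))

/-- Conjugating a star. -/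
theorem img_conj {a b : G} (hb : Img α D a b) (g : ↥(commutator G)) :
    Img α D ((g : G) * a * (g : G)⁻¹) (((α g : ↥(commutator G)) : G) * b * ((α g : ↥(commutator G)) : G)⁻¹) := by
  have h := B.set.cls
  intro e he x hx
  have he' : (g : G)⁻¹ * e * (g : G) ∈ perp D a := by
    refine ⟨by simpa using conj_mem h (g : G)⁻¹ he.1, fun k => he.2.1 ?_, ?_⟩
    · rw [← k]; group
    · rw [← commute_conj_iff (g : G)]
      simpa [mul_assoc] using he.2.2
  have m := hb _ he' (g⁻¹ * x * g) (by
    simp only [Subgroup.coe_mul, Subgroup.coe_inv, hx]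
    group)
  rw [map_mul, map_mul, map_inv, Subgroup.coe_mul, Subgroup.coe_mul, Subgroup.coe_inv] at m
  set γ := ((α g : ↥(commutator G)) : G)
  obtain ⟨hbD, v, hv, ev⟩ := m
  refine ⟨conj_mem h γ hbD, γ * v * γ⁻¹, ⟨conj_mem h γ hv.1, fun k => hv.2.1 (by simpa using k),
    (commute_conj_iff γ b v).2 hv.2.2⟩, ?_⟩
  rw [show γ * b * γ⁻¹ * (γ * v * γ⁻¹) = γ * (b * v) * γ⁻¹ by group, ev]
  group

omit B in
/-- The member that the star of `a` goes to. -/
noncomputable def beta (D : Set G) (α : MulAut ↥(commutator G)) (a : G) : G :=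
  Classical.epsilon fun b => b ∈ D ∧ Img α D a b

theorem beta_spec {a : G} (ha : a ∈ D) : beta D α a ∈ D ∧ Img α D a (beta D α a) :=
  Classical.epsilon_spec (p := fun b => b ∈ D ∧ Img α D a b) (exists_img B α ha)

theorem beta_pair {a e : G} (ha : a ∈ D) (he : e ∈ perp D a) {x : ↥(commutator G)} (hx : (x : G) = a * e) :
    ((α x : ↥(commutator G)) : G) = beta D α a * beta D α e :=
  (img_pair B α ha he (beta_spec B α ha).2 (beta_spec B α he.1).2 hx).2

theorem beta_perp {a e : G} (ha : a ∈ D) (he : e ∈ perp D a) : beta D α e ∈ perp D (beta D α a) :=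
  (img_pair B α ha he (beta_spec B α ha).2 (beta_spec B α he.1).2 (x := ⟨_, pair_mem B ha he⟩) rfl).1

/-- Conjugation by a member goes over. -/
theorem beta_conj {d a : G} (hd : d ∈ D) (ha : a ∈ D) :
    beta D α (d * a * d⁻¹) = beta D α d * beta D α a * (beta D α d)⁻¹ := by
  have h := B.set.cls
  by_cases e : a = d
  · subst e; simp
  by_cases k : Commute d a
  · rw [k.eq, mul_inv_cancel_right, (beta_perp B α hd ⟨ha, e, k⟩).2.2.eq, mul_inv_cancel_right]
  obtain ⟨c, hc⟩ := B.meets d hd a ha k
  have m := img_conj B α (beta_spec B α ha).2 ⟨d * c, pair_mem B hd hc.1⟩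
  have eq1 : d * c * a * (d * c)⁻¹ = d * a * d⁻¹ := by
    rw [mul_inv_rev, mul_assoc d c a, hc.2.2.2.symm.eq]; group
  rw [← eq1]
  refine (img_unique B α (conj_mem h _ ha) (beta_spec B α (conj_mem h _ ha)).2 m).trans ?_
  rw [beta_pair B α hd hc.1 rfl, mul_inv_rev]
  calc beta D α d * beta D α c * beta D α a * ((beta D α c)⁻¹ * (beta D α d)⁻¹)
      = beta D α d * (beta D α c * beta D α a) * (beta D α c)⁻¹ * (beta D α d)⁻¹ := by group
    _ = _ := by rw [(beta_perp B α ha hc.2).2.2.symm.eq]; group

/-- Every automorphism of the derived group is the restriction of one of the group keeping the class. -/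
theorem exists_extend : ∃ φ : G ≃* G, (∀ a ∈ D, φ a ∈ D) ∧
    ∀ x : ↥(commutator G), φ (x : G) = ((α x : ↥(commutator G)) : G) := by
  classical
  have h := B.set.cls
  obtain ⟨d, hd⟩ := nonempty B
  have hidx := M24.commutator_index B ⟨d, hd⟩
  have hdL := not_mem B hd
  have mm := fun {a b : G} => Subgroup.mul_mem_iff_of_index_two hidx (a := a) (b := b)
  set t := beta D α d
  have ht : t ∈ D := (beta_spec B α hd).1
  have hdd := mul_self h.1 hd
  have htt := mul_self h.1 ht
  have hkey : ∀ l : ↥(commutator G), ∀ hl : d * (l : G) * d⁻¹ ∈ commutator G,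
      ((α ⟨_, hl⟩ : ↥(commutator G)) : G) = t * (α l : G) * t⁻¹ := by
    intro l
    have hl' : l ∈ Subgroup.closure {x : ↥(commutator G) | IsP x} := closure_pairs B ▸ Subgroup.mem_top l
    induction hl' using Subgroup.closure_induction with
    | mem x hx =>
      intro hl
      obtain ⟨a, ha, e, he, eq⟩ := exists_pair B hx
      have hc : d * e * d⁻¹ ∈ perp D (d * a * d⁻¹) :=
        ⟨conj_mem h d he.1, fun k => he.2.1 (by simpa using k), (commute_conj_iff d a e).2 he.2.2⟩
      rw [beta_pair B α (conj_mem h d ha) hc (x := ⟨_, hl⟩) (by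
        show d * (x : G) * d⁻¹ = _
        rw [← eq]; group), beta_conj B α hd ha, beta_conj B α hd he.1, beta_pair B α ha he eq.symm]
      group
      rfl
    | one =>
      intro hl
      have : (⟨_, hl⟩ : ↥(commutator G)) = 1 := Subtype.ext (by simp)
      rw [this, map_one]
      simp
    | mul x y _ _ ix iy =>
      intro hl
      have hn := (inferInstance : (commutator G).Normal).conj_mem
      have : (⟨_, hl⟩ : ↥(commutator G)) = ⟨_, hn x x.2 d⟩ * ⟨_, hn y y.2 d⟩ :=
        Subtype.ext (by simp [mul_assoc])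
      rw [this, map_mul, Subgroup.coe_mul, ix, iy, map_mul, Subgroup.coe_mul]
      group
    | inv x _ ix =>
      intro hl
      have hn := (inferInstance : (commutator G).Normal).conj_mem
      have : (⟨_, hl⟩ : ↥(commutator G)) = ⟨_, hn x x.2 d⟩⁻¹ := Subtype.ext (by simp [mul_assoc])
      rw [this, map_inv, Subgroup.coe_inv, ix, map_inv, Subgroup.coe_inv]
      group
  let A : G → G := fun g => if hg : g ∈ commutator G then ((α ⟨g, hg⟩ : ↥(commutator G)) : G) else 1
  have hA : ∀ x : ↥(commutator G), A x = ((α x : ↥(commutator G)) : G) := fun x => dif_pos x.2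
  have hAmul : ∀ {u v : G}, u ∈ commutator G → v ∈ commutator G → A (u * v) = A u * A v := fun {u v} hu hv => by
    have := hA (⟨u, hu⟩ * ⟨v, hv⟩)
    rw [map_mul, Subgroup.coe_mul, Subgroup.coe_mul, ← hA, ← hA] at this
    exact this
  have hAconj : ∀ {u : G}, u ∈ commutator G → A (d * u * d) = t * A u * t := fun {u} hu => by
    have hm : d * u * d⁻¹ ∈ commutator G := (inferInstance : (commutator G).Normal).conj_mem u hu d
    have := hkey ⟨u, hu⟩ hm
    rw [← hA, ← hA, inv_eq h.1 ht] at this
    simp only [inv_eq h.1 hd] at this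
    exact this
  let f : G → G := fun g => if g ∈ commutator G then A g else A (g * d) * t
  have f1 : ∀ {g}, g ∈ commutator G → f g = A g := fun hg => if_pos hg
  have f2 : ∀ {g}, g ∉ commutator G → f g = A (g * d) * t := fun hg => if_neg hg
  have gd : ∀ {g}, g ∉ commutator G → g * d ∈ commutator G := fun hg => mm.2 (iff_of_false hg hdL)
  let F : G →* G := MonoidHom.mk' f fun u v => by
    by_cases hu : u ∈ commutator G <;> by_cases hv : v ∈ commutator G
    · rw [f1 (mul_mem hu hv), f1 hu, f1 hv, hAmul hu hv]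
    · have huv : u * v ∉ commutator G := fun k => hv ((mm.1 k).1 hu)
      rw [f2 huv, f1 hu, f2 hv, mul_assoc u, hAmul hu (gd hv), mul_assoc]
    · have huv : u * v ∉ commutator G := fun k => hu ((mm.1 k).2 hv)
      rw [f2 huv, f2 hu, f1 hv,
        show u * v * d = u * d * (d * v * d) by simp [mul_assoc, mul_self_mul h.1 hd],
        hAmul (gd hu) (by simpa [inv_eq h.1 hd] using (inferInstance : (commutator G).Normal).conj_mem v hv d),
        hAconj hv]
      simp [mul_assoc, htt]
    · have huv : u * v ∈ commutator G := mm.2 (iff_of_false hu hv)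
      have hvd : d * (v * d) * d ∈ commutator G := by
        simpa [inv_eq h.1 hd] using (inferInstance : (commutator G).Normal).conj_mem _ (gd hv) d
      rw [f1 huv, f2 hu, f2 hv]
      conv_lhs => rw [show u * v = u * d * (d * (v * d) * d) by simp [mul_assoc, mul_self_mul h.1 hd, hdd]]
      rw [hAmul (gd hu) hvd, hAconj (gd hv)]
      simp [mul_assoc]
  have hFL : ∀ x : ↥(commutator G), F x = ((α x : ↥(commutator G)) : G) := fun x => (f1 x.2).trans (hA x)
  have hinj : Function.Injective F := by
    rw [← MonoidHom.ker_eq_bot_iff]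
    by_contra hne
    have hle := M24.commutator_le B F.ker hne
    obtain ⟨e, he⟩ := B.set.perp_ne d hd
    have hP := pair_isP B hd he
    have k : F (d * e) = 1 := hle (pair_mem B hd he)
    rw [hFL ⟨_, pair_mem B hd he⟩, OneMemClass.coe_eq_one] at k
    rw [IsP, show (⟨_, pair_mem B hd he⟩ : ↥(commutator G)) = 1 from α.injective (k.trans (map_one α).symm),
      orderOf_one] at hP
    omega
  refine ⟨MulEquiv.ofBijective F (Finite.injective_iff_bijective.1 hinj), fun a ha => ?_, hFL⟩
  show f a ∈ D
  have hval : A (a * d) = beta D α a * t := by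
    by_cases e : a = d
    · subst e
      have := hA 1
      rw [map_one, OneMemClass.coe_one] at this
      rw [hdd, this]
      exact htt.symm
    by_cases k : Commute a d
    · have hdp : d ∈ perp D a := ⟨hd, Ne.symm e, k⟩
      exact (hA ⟨_, pair_mem B ha hdp⟩).trans (beta_pair B α ha hdp rfl)
    obtain ⟨c, hc⟩ := B.meets a ha d hd k
    have hcd : d ∈ perp D c := M22.perp_symm hd hc.2
    rw [show a * d = a * c * (c * d) by simp [mul_assoc, mul_self_mul h.1 hc.1.1],
      hAmul (pair_mem B ha hc.1) (pair_mem B hc.1.1 hcd),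
      show A (a * c) = _ from (hA ⟨_, pair_mem B ha hc.1⟩).trans (beta_pair B α ha hc.1 rfl),
      show A (c * d) = _ from (hA ⟨_, pair_mem B hc.1.1 hcd⟩).trans (beta_pair B α hc.1.1 hcd rfl)]
    simp [mul_assoc, mul_self_mul h.1 (beta_spec B α hc.1.1).1]
    rfl
  rw [f2 (not_mem B ha), hval, mul_assoc, htt, mul_one]
  exact (beta_spec B α ha).1

end Cfsg.Agent.Grp.M24Aut
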