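import Cfsg.Agent.Lib.Fus.M24U.Graph
import Cfsg.Agent.Lib.Fus.ThreeA.M24
import Cfsg.Agent.Lib.Fus.Fi23Out.Main

/-! An automorphism of a group of type M(24) keeping the class is inner. -/

set_option autoImplicit false
set_option linter.style.haveILetI false
set_option linter.unusedSectionVars false
set_option maxRecDepth 20000
set_option maxHeartbeats 1000000

namespace Cfsg.Agent.Grp.M24Aut

open Cfsg Cfsg.Agent.Spor.ThreeTrans Cfsg.Agent.Block.FischerTypes
open Cfsg.Agent.Spor.Cos.Fi23 (actA piA)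
open Cfsg.Agent.Fus.M23U.TypeOf (dp classD range_dp g_conj)
open Cfsg.Agent.Fus.M24U (Frame exists_frame)

variable {G : Type*} [Group G] [Finite G] {D : Set G} {d c : G} {L : Spor.Fi23 →* G}

theorem closure_dp : Subgroup.closure (Set.range dp) = (⊤ : Subgroup Spor.Fi23) := by
  rw [range_dp, ← top_le_iff, ← Spor.Cos.Fi23.g_gen]
  refine Subgroup.closure_mono ?_
  rintro _ ⟨s, hs, rfl⟩
  exact g_conj s hs

theorem out_trivial (θ : MulAut Spor.Fi23) : ∃ r : Spor.Fi23, ∀ y, θ y = r * y * r⁻¹ := by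
  have h : (Inn Spor.Fi23).index = 1 := by
    rw [Subgroup.index_eq_card]
    exact Fus.Fi23Out.card_out
  have : θ ∈ Inn Spor.Fi23 := Subgroup.index_eq_one.1 h ▸ Subgroup.mem_top θ
  obtain ⟨r, hr⟩ := this
  exact ⟨r, fun y => by rw [← hr]; rfl⟩

variable (B : M24.Base D) (F : Frame D d c L)
include B F

/-- Fixing `d`, `c` and the Fi23 between them means fixing everything. -/
theorem id_of_fix (ψ : G →* G) (hd : ψ d = d) (hc : ψ c = c) (hL : ∀ y, ψ (L y) = L y) (x : G) : ψ x = x := by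
  have : Subgroup.closure D ≤ MonoidHom.eqLocus ψ (MonoidHom.id G) := by
    rw [Subgroup.closure_le]
    intro u hu
    show ψ u = u
    by_cases e : u = d
    · rw [e, hd]
    by_cases k : Commute d u
    · obtain ⟨p, rfl⟩ := F.perp_eq.le (show u ∈ perp D d from ⟨hu, e, k⟩)
      rw [map_mul, hL, hd]
    · obtain ⟨y, rfl⟩ := F.orbit u hu k
      rw [map_mul, map_mul, map_inv, hL, hc]
  exact this (B.set.cls.2.2 ▸ Subgroup.mem_top x)

/-- An automorphism keeping the class and fixing two apart members is inner. -/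
theorem inner_of_fix (φ : G ≃* G) (hφ : ∀ a ∈ D, φ a ∈ D) (hd : φ d = d) (hc : φ c = c) :
    ∃ g : G, ∀ x, φ x = g * x * g⁻¹ := by
  classical
  haveI := Spor.Cos.Fi23.finite
  have h := B.set.cls
  have hdd := mul_self h.1 F.left_mem
  have hmem : ∀ y, φ (L y) ∈ L.range := by
    have : Subgroup.closure (Set.range dp) ≤ L.range.comap (φ.toMonoidHom.comp L) := by
      rw [Subgroup.closure_le]
      rintro _ ⟨p, rfl⟩
      show φ (L (dp p)) ∈ L.range
      obtain ⟨hD, hne, hcm⟩ := F.mem_perp p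
      have hu : φ (L (dp p) * d) ∈ perp D d :=
        ⟨hφ _ hD, fun k => hne (φ.injective (k.trans hd.symm)), by
          have := hcm.map φ.toMonoidHom
          simpa [hd] using this⟩
      obtain ⟨q, hq⟩ := F.perp_eq.le hu
      refine ⟨dp q, ?_⟩
      have e : φ (L (dp p) * d) * d = φ (L (dp p)) := by rw [map_mul, hd, mul_assoc, hdd, mul_one]
      rw [← e, ← hq]
      show L (dp q) = L (dp q) * d * d
      rw [mul_assoc, hdd, mul_one]
    rw [closure_dp] at this
    exact fun y => this (Subgroup.mem_top y)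
  let θ : Spor.Fi23 →* Spor.Fi23 :=
    (MonoidHom.ofInjective F.inj).symm.toMonoidHom.comp ((φ.toMonoidHom.comp L).codRestrict L.range hmem)
  have hθ : ∀ y, L (θ y) = φ (L y) := fun y =>
    congrArg Subtype.val ((MonoidHom.ofInjective F.inj).apply_symm_apply ⟨φ (L y), hmem y⟩)
  have hinj : Function.Injective θ := fun y z k => F.inj (φ.injective (by rw [← hθ, ← hθ, k]))
  obtain ⟨r, hr⟩ := out_trivial (MulEquiv.ofBijective θ (Finite.injective_iff_bijective.1 hinj))
  let ψ : G →* G := (MulAut.conj (L r)⁻¹).toMonoidHom.comp φ.toMonoidHom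
  have hψ : ∀ x, ψ x = (L r)⁻¹ * φ x * L r := fun x => by simp [ψ]
  have ψd : ψ d = d := by rw [hψ, hd, mul_assoc, (F.comm r).symm.eq, inv_mul_cancel_left]
  have ψL : ∀ y, ψ (L y) = L y := fun y => by
    have : θ y = r * y * r⁻¹ := hr y
    rw [hψ, ← hθ, this, map_mul, map_mul, map_inv]
    group
  have ψc : ψ c ∈ D := by
    rw [hψ, hc]
    simpa using conj_mem h (L r)⁻¹ F.right_mem
  have hall : ∀ y ∈ common D d c, Commute (ψ c) y := fun y hy => by
    obtain ⟨p, rfl⟩ := F.perp_eq.le hy.1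
    have k := (hy.2.2.2).map ψ
    simpa [ψL, ψd] using k
  rcases Fus.ThreeA.M24.pin B F.left_mem F.right_mem F.apart (ψ c) ψc hall with e | e | e
  · refine absurd ?_ F.apart
    have k : φ c = φ d := by
      have := congrArg (fun z => L r * z * (L r)⁻¹) (e.trans ψd.symm)
      simpa [hψ, mul_assoc] using this
    exact φ.injective k ▸ Commute.refl d
  · refine ⟨L r, fun x => ?_⟩
    have := id_of_fix B F ψ ψd e ψL x
    rw [hψ] at this
    conv_rhs => rw [← this]
    group
  · refine ⟨L r * d, fun x => ?_⟩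
    let ψ' : G →* G := (MulAut.conj d).toMonoidHom.comp ψ
    have hψ' : ∀ z, ψ' z = d * ψ z * d⁻¹ := fun z => rfl
    have := id_of_fix B F ψ' (by rw [hψ', ψd, mul_inv_cancel_right]) (by
      rw [hψ', e, inv_eq h.1 F.left_mem]; simp [mul_assoc, hdd, mul_self_mul h.1 F.left_mem])
      (fun y => by rw [hψ', ψL, (F.comm y).symm.eq, mul_inv_cancel_right]) x
    rw [hψ', hψ] at this
    conv_rhs => rw [← this]
    rw [inv_eq h.1 F.left_mem]
    simp [mul_assoc, mul_self_mul h.1 F.left_mem, hdd, inv_eq h.1 F.left_mem]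

omit F

/-- An automorphism keeping the class is inner. -/
theorem inner_of_class (φ : G ≃* G) (hφ : ∀ a ∈ D, φ a ∈ D) : ∃ g : G, ∀ x, φ x = g * x * g⁻¹ := by
  obtain ⟨d, hd, c, hc, hdc, -⟩ := B.seed
  obtain ⟨L, F⟩ := exists_frame B hd hc hdc
  obtain ⟨g, e1, e2⟩ := apart_pair_conj B.set hd hc hdc (hφ d hd) (hφ c hc)
    fun k => hdc (by simpa using k.map φ.symm.toMonoidHom)
  obtain ⟨k, hk⟩ := inner_of_fix B F (φ.trans (MulAut.conj g⁻¹)) (fun a ha => by
      simpa using conj_mem B.set.cls g⁻¹ (hφ a ha))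
    (by simp [← e1, mul_assoc]) (by simp [← e2, mul_assoc])
  refine ⟨g * k, fun x => ?_⟩
  have := hk x
  simp only [MulEquiv.trans_apply, MulAut.conj_apply, inv_inv] at this
  calc φ x = g * (g⁻¹ * φ x * g) * g⁻¹ := by group
    _ = _ := by rw [this]; group

end Cfsg.Agent.Grp.M24Aut
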