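import Cfsg.Agent.Lib.Grp.M24Aut.Extend
import Cfsg.Agent.Lib.Grp.M24Aut.Inner
import Cfsg.Prelude.Def_KGroupFacts

/-! The outer automorphism group of the derived group in type M(24) has order two. -/

set_option autoImplicit false
set_option linter.style.haveILetI false
set_option linter.unusedSectionVars false

namespace Cfsg.Agent.Grp.M24Aut

open Cfsg Cfsg.Agent.Spor.ThreeTrans Cfsg.Agent.Block.FischerTypes

variable {G : Type*} [Group G] [Finite G] {D : Set G}

theorem card_out (B : M24.Base D) : Nat.card (Cfsg.Out ↥(commutator G)) = 2 := by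
  have hne := nonempty B
  haveI := M24.commutator_simple B hne
  let Φ : G →* MulAut ↥(commutator G) := MulAut.conjNormal
  have hsurj : Function.Surjective Φ := fun α => by
    obtain ⟨φ, hφ, hα⟩ := exists_extend B α
    obtain ⟨g, hg⟩ := inner_of_class B φ hφ
    exact ⟨g, MulEquiv.ext fun x => Subtype.ext (by rw [← hα, hg]; rfl)⟩
  have hker : Φ.ker = ⊥ := by
    by_contra h
    have hle := M24.commutator_le B Φ.ker h
    obtain ⟨d, hd⟩ := hne
    obtain ⟨e, he⟩ := B.set.perp_ne d hd
    have hcomm : ∀ a b : ↥(commutator G), a * b = b * a := fun a b => by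
      have : Φ (a : G) b = b := by rw [MonoidHom.mem_ker.1 (hle a.2)]; rfl
      have : (a : G) * b * (a : G)⁻¹ = b := congrArg Subtype.val this
      exact Subtype.ext (mul_inv_eq_iff_eq_mul.1 this)
    have hperf := M24.commutator_perfect B ⟨d, hd⟩
    have : (d * e) ∈ (⊥ : Subgroup G) := by
      have hbot : ⁅commutator G, commutator G⁆ = ⊥ := by
        rw [eq_bot_iff, Subgroup.commutator_le]
        intro a ha b hb
        rw [Subgroup.mem_bot, commutatorElement_eq_one_iff_mul_comm]
        exact congrArg Subtype.val (hcomm ⟨a, ha⟩ ⟨b, hb⟩)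
      rw [← hbot, hperf]
      exact pair_mem B hd he
    have hP := pair_isP B hd he
    rw [IsP, show (⟨d * e, pair_mem B hd he⟩ : ↥(commutator G)) = 1 from Subtype.ext (Subgroup.mem_bot.1 this),
      orderOf_one] at hP
    omega
  have hmap : (commutator G).map Φ = Inn ↥(commutator G) := by
    ext α
    constructor
    · rintro ⟨g, hg, rfl⟩
      exact ⟨⟨g, hg⟩, MulEquiv.ext fun x => Subtype.ext rfl⟩
    · rintro ⟨x, rfl⟩
      exact ⟨x, x.2, MulEquiv.ext fun y => Subtype.ext rfl⟩
  rw [show Nat.card (Cfsg.Out ↥(commutator G)) = (Inn ↥(commutator G)).index from (Subgroup.index_eq_card _).symm,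
    ← hmap, Subgroup.index_map, hker, sup_bot_eq, MonoidHom.range_eq_top.2 hsurj, Subgroup.index_top, mul_one,
    M24.commutator_index B hne]

end Cfsg.Agent.Grp.M24Aut
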