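import Cfsg.Agent.Lib.Block.FischerTypes.M24Pair
import Cfsg.Agent.Lib.Block.FischerTypes.M24Fact
import Cfsg.Agent.Lib.Block.FischerTypes.M24Products
import Cfsg.Agent.Lib.Block.FischerTypes.M24QuadCentralizer

/-! The products of commuting pairs in the derived group of a group of type M(24), told apart by the group alone. -/

set_option autoImplicit false
set_option linter.style.haveILetI false
set_option linter.unusedSectionVars false
set_option maxHeartbeats 1000000

namespace Cfsg.Agent.Grp.M24Aut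

open Cfsg Cfsg.Agent.Spor.ThreeTrans Cfsg.Agent.Block.FischerTypes

variable {G : Type*} [Group G] [Finite G] {D : Set G}

/-- The centraliser of an element in the derived group. -/
abbrev cent (x : ↥(commutator G)) : Subgroup ↥(commutator G) := Subgroup.centralizer {x}

/-- An involution with a large centraliser. -/
def IsP (x : ↥(commutator G)) : Prop := orderOf x = 2 ∧ 64561751654400 ≤ 2 * Nat.card ↥(cent x)

/-- Two such involutions that share a member. -/
def Rel (x y : ↥(commutator G)) : Prop := x ≠ y ∧ IsP (x * y) ∧ y ∈ ⁅cent x, cent x⁆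

/-- A member of a pair with the given product. -/
def Mem (D : Set G) (x u : G) : Prop := u ∈ D ∧ ∃ v ∈ perp D u, u * v = x

omit [Finite G] in
theorem cent_map (α : MulAut ↥(commutator G)) (x : ↥(commutator G)) :
    (cent x).map α.toMonoidHom = cent (α x) := by
  ext y
  rw [Subgroup.mem_map_equiv, Subgroup.mem_centralizer_singleton_iff, Subgroup.mem_centralizer_singleton_iff,
    ← α.injective.eq_iff (a := α.symm y * x)]
  simp

omit [Finite G] in
theorem isP_map (α : MulAut ↥(commutator G)) {x : ↥(commutator G)} (hx : IsP x) : IsP (α x) := by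
  refine ⟨?_, ?_⟩
  · rw [← hx.1]; exact orderOf_injective α.toMonoidHom α.injective x
  · rw [← cent_map, ← Nat.card_congr ((cent x).equivMapOfInjective _ α.injective).toEquiv]
    exact hx.2

omit [Finite G] in
theorem rel_map (α : MulAut ↥(commutator G)) {x y : ↥(commutator G)} (h : Rel x y) : Rel (α x) (α y) := by
  refine ⟨fun e => h.1 (α.injective e), map_mul α x y ▸ isP_map α h.2.1, ?_⟩
  rw [← cent_map, ← Subgroup.map_commutator]
  exact ⟨y, h.2.2, rfl⟩

omit [Finite G] in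
theorem cent_sub (x : ↥(commutator G)) :
    (cent x).map (commutator G).subtype = commutator G ⊓ Subgroup.centralizer ({(x : G)} : Set G) := by
  ext g
  simp only [Subgroup.mem_map, Subgroup.mem_inf, Subgroup.mem_centralizer_singleton_iff]
  exact ⟨fun ⟨y, hy, e⟩ => e ▸ ⟨y.2, congrArg Subtype.val hy⟩, fun h => ⟨⟨g, h.1⟩, Subtype.ext h.2, rfl⟩⟩

omit [Finite G] in
theorem card_cent_le (x : ↥(commutator G)) :
    Nat.card ↥(cent x) = Nat.card ↥(commutator G ⊓ Subgroup.centralizer ({(x : G)} : Set G) : Subgroup G) := by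
  rw [← cent_sub, ← Nat.card_congr ((cent x).equivMapOfInjective _ (Subgroup.subtype_injective _)).toEquiv]

variable (B : M24.Base D)
include B

theorem nonempty : D.Nonempty := let ⟨d, hd, _⟩ := B.seed; ⟨d, hd⟩

theorem pair_mem {d e : G} (hd : d ∈ D) (he : e ∈ perp D d) : d * e ∈ commutator G := by
  obtain ⟨χ, hχ, hk⟩ := M24.even_part B ⟨d, hd⟩
  rw [hk, MonoidHom.mem_ker, map_mul, hχ d hd, hχ e he.1]
  decide

theorem not_mem {d : G} (hd : d ∈ D) : d ∉ commutator G := by
  obtain ⟨χ, hχ, hk⟩ := M24.even_part B ⟨d, hd⟩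
  rw [hk, MonoidHom.mem_ker, hχ d hd]
  decide

theorem good : ∀ a ∈ D, ∀ e ∈ perp D a, TwinFree₂ D a e := fun a ha e he =>
  (inner B.set.cls B.set.tf ha he (B.set.qcls ha) (B.set.qtf ha) ((B.sub a ha).set.qcls (pr_mem he))
    ((B.sub a ha).set.qtf (pr_mem he))).1

/-- A pair is large. -/
theorem pair_isP {d e : G} (hd : d ∈ D) (he : e ∈ perp D d) : IsP ⟨d * e, pair_mem B hd he⟩ := by
  have h := B.set.cls
  haveI : Fact (Nat.Prime 2) := ⟨Nat.prime_two⟩
  refine ⟨?_, ?_⟩
  · rw [← Subgroup.orderOf_coe]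
    refine orderOf_eq_prime (sq_of_commute h hd he.1 he.2.2) fun k => he.2.1 ?_
    rw [eq_inv_of_mul_eq_one_right k, inv_eq h.1 hd]
  · rw [card_cent_le]
    obtain ⟨Φ, hΦ, -⟩ := M24.pair_map B hd he
    obtain ⟨e2, -⟩ := Fus.M22U.exists_iso ((B.sub d hd).ctx _ (pr_mem he))
    set C := Subgroup.centralizer ({d * e} : Set G)
    have h1 : 64561751654400 ≤ Nat.card ↥C := by
      rw [← Spor.Cos.Fi22.card_eq, Nat.card_congr e2.toEquiv]
      refine (Nat.card_le_card_of_surjective Φ hΦ).trans (Subgroup.card_le_of_le fun g hg => ?_)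
      exact Subgroup.mem_centralizer_singleton_iff.2
        ((M24.pair_commute hg).1.mul_right (M24.pair_commute hg).2).eq
    have h2 : Nat.card ↥C ≤ 2 * Nat.card ↥(commutator G ⊓ C : Subgroup G) := by
      rw [← Subgroup.subgroupOf_map_subtype, ← Nat.card_congr
        (((commutator G).subgroupOf C).equivMapOfInjective _ (Subgroup.subtype_injective _)).toEquiv,
        ← Subgroup.card_mul_index ((commutator G).subgroupOf C), mul_comm]
      refine Nat.mul_le_mul_right _ (Nat.le_of_dvd (by norm_num) ?_)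
      rw [← M24.commutator_index B ⟨d, hd⟩]
      exact Subgroup.relIndex_dvd_index_of_normal _ C
    exact h1.trans h2

/-- A large involution is a pair. -/
theorem exists_pair {x : ↥(commutator G)} (hx : IsP x) : ∃ d ∈ D, ∃ e ∈ perp D d, d * e = (x : G) := by
  have hne := nonempty B
  obtain ⟨m, h1, h4, l, hl⟩ := M24.invol_fact B hne (show orderOf (x : G) = 2 by
    rw [Subgroup.orderOf_coe]; exact hx.1)
  obtain ⟨χ, hχ⟩ := M24.sign_list B
  have hp : (-1 : ℤˣ) ^ m = 1 := by
    rw [← hl.2.1, ← hχ l hl.2.2.1, hl.2.2.2.2]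
    exact Abelianization.commutator_subset_ker χ x.2
  interval_cases m
  · exact absurd hp (by decide)
  · obtain ⟨d, e, rfl⟩ := List.length_eq_two.mp hl.2.1
    obtain ⟨hn, -, hD, hc, hpr⟩ := hl
    refine ⟨d, hD d (by simp), e, ⟨hD e (by simp), Ne.symm (by simpa using hn), hc d (by simp) e (by simp)⟩, ?_⟩
    simpa using hpr
  · exact absurd hp (by decide)
  · exfalso
    have k := hx.2
    rw [card_cent_le] at k
    have h : Nat.card ↥(commutator G ⊓ Subgroup.centralizer ({(x : G)} : Set G) : Subgroup G) ≤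
        Nat.card ↥(Subgroup.centralizer ({(x : G)} : Set G)) := Subgroup.card_le_of_le inf_le_right
    rw [M24.Four.card_cent (z := (x : G)) ⟨B, good B, l, hl⟩] at h
    omega

/-- The derived group of the centraliser of a pair fixes both members. -/
theorem mem_der {d e : G} (hd : d ∈ D) (he : e ∈ perp D d) {x : ↥(commutator G)} (hx : (x : G) = d * e)
    (y : ↥(commutator G)) : y ∈ ⁅cent x, cent x⁆ ↔ Commute (y : G) d ∧ Commute (y : G) e := by
  set CL := commutator G ⊓ Subgroup.centralizer ({d * e} : Set G) with hCL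
  set K := commutator G ⊓ Subgroup.centralizer ({d, e} : Set G) with hK
  haveI : ((Subgroup.zpowers (d * e)).subgroupOf CL).Normal := ⟨fun z hz g => by
    rw [Subgroup.mem_subgroupOf] at hz ⊢
    obtain ⟨n, hn⟩ := Subgroup.mem_zpowers_iff.1 hz
    have k : Commute (g : G) (z : G) := hn ▸ (show Commute (g : G) (d * e) from
      Subgroup.mem_centralizer_singleton_iff.1 g.2.2).zpow_right n
    simp only [Subgroup.coe_mul, Subgroup.coe_inv, k.eq, mul_inv_cancel_right]
    exact hz⟩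
  obtain ⟨hq, -, hle, hidx, -, -⟩ := M24.pair_centraliser B rfl hd he hK hCL
  have hder : ⁅CL, CL⁆ = K := by
    refine le_antisymm (Subgroup.commutator_le.2 fun g hg k hk => ?_) ?_
    · have hm : (⟨g, hg⟩ * ⟨k, hk⟩ * ⟨g, hg⟩⁻¹ * ⟨k, hk⟩⁻¹ : ↥CL) ∈ K.subgroupOf CL := by
        simp only [Subgroup.mul_mem_iff_of_index_two hidx, inv_mem_iff]
        tauto
      rw [commutatorElement_def]
      exact hm
    · have hp : commutator ↥K = ⊤ := hq.1.commutator_eq_top
      calc K = (commutator ↥K).map K.subtype := by rw [hp, ← MonoidHom.range_eq_map, Subgroup.range_subtype]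
        _ = ⁅K, K⁆ := Subgroup.map_subtype_commutator K
        _ ≤ _ := Subgroup.commutator_mono hle hle
  have h1 : ⁅cent x, cent x⁆.map (commutator G).subtype = K := by
    rw [Subgroup.map_commutator, cent_sub, hx, ← hCL, hder]
  constructor
  · intro hy
    have : (y : G) ∈ K := h1.le ⟨y, hy, rfl⟩
    exact M24.pair_commute this.2
  · intro hy
    obtain ⟨y', hy', ey⟩ := h1.ge (show (y : G) ∈ K from ⟨y.2, Subgroup.mem_centralizer_iff.2
      (by rintro z (rfl | rfl); exacts [hy.1.symm.eq, hy.2.symm.eq])⟩)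
    rwa [← Subtype.ext ey]

/-- Members of a pair. -/
theorem mem_iff {d e : G} (hd : d ∈ D) (he : e ∈ perp D d) {u : G} :
    Mem D (d * e) u ↔ u = d ∨ u = e := by
  refine ⟨fun ⟨hu, v, hv, k⟩ => uniq2 B.set.cls B.set.tf hu hv.1 hd he.1 (Ne.symm hv.2.1) (Ne.symm he.2.1)
    hv.2.2 he.2.2 k, ?_⟩
  rintro (rfl | rfl)
  · exact ⟨hd, e, he, rfl⟩
  · exact ⟨he.1, d, M22.perp_symm hd he, he.2.2.symm.eq⟩

theorem mem_two {x p q : G} (hp : Mem D x p) (hq : Mem D x q) (hpq : p ≠ q) :
    q ∈ perp D p ∧ x = p * q := by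
  obtain ⟨hpD, v, hv, rfl⟩ := hp
  rcases (mem_iff B hpD hv).1 hq with e | e
  · exact absurd e.symm hpq
  · subst e
    exact ⟨hv, rfl⟩

/-- Related pairs share a member. -/
theorem share_of_rel {x y : ↥(commutator G)} (hx : IsP x) (hy : IsP y) (h : Rel x y) :
    ∃ a e c, a ∈ D ∧ e ∈ perp D a ∧ c ∈ perp D e ∧ c ∈ perp D a ∧ (x : G) = a * e ∧ (y : G) = a * c := by
  have hh := B.set.cls
  obtain ⟨a, ha, b, hb, exab⟩ := exists_pair B hx
  obtain ⟨c, hc, f, hf, eycf⟩ := exists_pair B hy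
  obtain ⟨g, hg, k, hk, exy⟩ := exists_pair B h.2.1
  obtain ⟨k1, k2⟩ := (mem_der B ha hb exab.symm y).1 h.2.2
  rw [← eycf] at k1 k2
  obtain ⟨kac, kaf⟩ := (commute_mul_iff hh.1 hc hf.1 ha (Ne.symm hf.2.1) hf.2.2).1 k1.symm
  obtain ⟨kbc, kbf⟩ := (commute_mul_iff hh.1 hc hf.1 hb.1 (Ne.symm hf.2.1) hf.2.2).1 k2.symm
  have exy' : ∀ {p q r : G}, (x : G) = p * q → (y : G) = p * r → q ≠ r := fun e1 e2 e =>
    h.1 (Subtype.ext (by rw [e1, e2, e]))
  by_cases e : a = c
  · subst e
    exact ⟨a, b, f, ha, hb, ⟨hf.1, Ne.symm (exy' exab.symm eycf.symm), kbf⟩, hf, exab.symm, eycf.symm⟩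
  by_cases e' : a = f
  · subst e'
    have ey : (y : G) = a * c := by rw [← eycf, hf.2.2.eq]
    exact ⟨a, b, c, ha, hb, ⟨hc, Ne.symm (exy' exab.symm ey), kbc⟩, M22.perp_symm hc hf, exab.symm, ey⟩
  by_cases e2 : b = c
  · subst e2
    have ex : (x : G) = b * a := by rw [← exab, hb.2.2.eq]
    exact ⟨b, a, f, hb.1, M22.perp_symm ha hb, ⟨hf.1, Ne.symm e', kaf⟩, hf, ex, eycf.symm⟩
  by_cases e3 : b = f
  · subst e3
    have ex : (x : G) = b * a := by rw [← exab, hb.2.2.eq]
    have ey : (y : G) = b * c := by rw [← eycf, hf.2.2.eq]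
    exact ⟨b, a, c, hb.1, M22.perp_symm ha hb, ⟨hc, Ne.symm e, kac⟩, M22.perp_symm hc hf, ex, ey⟩
  exfalso
  refine M24.four_ne_pair B hg hk (l := [a, b, c, f]) ⟨?_, rfl, ?_, ?_⟩ ?_
  · simp [e, e', e2, e3, Ne.symm hb.2.1, Ne.symm hf.2.1]
  · simp [ha, hb.1, hc, hf.1]
  · simp [Commute.refl, hb.2.2, hb.2.2.symm, hf.2.2, hf.2.2.symm, kac, kac.symm, kaf, kaf.symm, kbc, kbc.symm,
      kbf, kbf.symm]
  · rw [exy, Subgroup.coe_mul, ← exab, ← eycf]
    simp [mul_assoc]

/-- Pairs sharing a member are related. -/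
theorem rel_of_share {a e c : G} (ha : a ∈ D) (he : e ∈ perp D a) (hc : c ∈ perp D a) (hec : c ∈ perp D e) :
    Rel (⟨a * e, pair_mem B ha he⟩ : ↥(commutator G)) ⟨a * c, pair_mem B ha hc⟩ := by
  have h := B.set.cls
  refine ⟨fun k => hec.2.1 (mul_left_cancel (congrArg Subtype.val k)).symm, ?_, ?_⟩
  · have k : (⟨a * e, pair_mem B ha he⟩ * ⟨a * c, pair_mem B ha hc⟩ : ↥(commutator G)) =
        ⟨e * c, pair_mem B he.1 hec⟩ := Subtype.ext (by
      show a * e * (a * c) = e * c
      rw [he.2.2.eq, mul_assoc, ← mul_assoc a a, mul_self h.1 ha, one_mul])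
    rw [k]
    exact pair_isP B he.1 hec
  · rw [mem_der B ha he rfl]
    exact ⟨(Commute.refl a).mul_left hc.2.2.symm, he.2.2.mul_left hec.2.2.symm⟩

end Cfsg.Agent.Grp.M24Aut
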