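import Cfsg.Agent.Lib.Grp.M24Aut.Main
import Cfsg.Agent.Lib.Spor.Cos.OutTwo
import Cfsg.Prelude.Def_Spor_Fi24

/-! The outer automorphism group of the presented Fi24', given any model of type M(24) of the presented Fi24. -/

set_option autoImplicit false
set_option linter.style.haveILetI false

namespace Cfsg.Agent.Grp.M24Aut

open Cfsg Cfsg.Agent.Block.FischerTypes

theorem card_out_fi24 {X : Type*} [Group X] [Finite X] {E : Set X} (B : M24.Base E) (e : Spor.Fi24 ≃* X) :
    Nat.card (Cfsg.Out Spor.Fi24') = 2 := by
  have hmap : (commutator Spor.Fi24).map e.toMonoidHom = commutator X := by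
    rw [commutator_def, commutator_def, Subgroup.map_commutator, Subgroup.map_top_of_surjective _ e.surjective]
  rw [Spor.Cos.card_out_congr (((commutator Spor.Fi24).equivMapOfInjective _ e.injective).trans
    (MulEquiv.subgroupCongr hmap))]
  exact card_out B

end Cfsg.Agent.Grp.M24Aut
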