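import Cfsg.Agent.Lib.Grp.M24Aut.Pairs
import Cfsg.Agent.Lib.Block.FischerTypes.M24Centralizer

/-! An automorphism of the derived group moves members by way of their stars of pairs. -/

set_option autoImplicit false
set_option linter.style.haveILetI false
set_option linter.unusedSectionVars false
set_option maxHeartbeats 1000000

namespace Cfsg.Agent.Grp.M24Aut

open Cfsg Cfsg.Agent.Spor.ThreeTrans Cfsg.Agent.Block.FischerTypes

variable {G : Type*} [Group G] [Finite G] {D : Set G}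
variable (B : M24.Base D)
include B

/-- Two apart members of a perpendicular have a common one. -/
theorem meet_two {a e g : G} (ha : a ∈ D) (he : e ∈ perp D a) (hg : g ∈ perp D a) (hn : ¬ Commute e g) :
    ∃ w ∈ perp D a, w ∈ perp D e ∧ w ∈ perp D g := by
  obtain ⟨w', hw'⟩ := (B.sub a ha).meets _ (pr_mem he) _ (pr_mem hg)
    fun k => hn (commute_of_pr B.set.cls B.set.tf ha he hg k)
  obtain ⟨w, hw, rfl⟩ := exists_of_mem hw'.1.1
  exact ⟨w, hw, (M24.toK B ha he hw).1 hw'.1, (M24.toK B ha hg hw).1 hw'.2⟩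

/-- Two apart members of the perpendicular of a pair have a common one. -/
theorem meet_three {a e g k : G} (ha : a ∈ D) (he : e ∈ perp D a) (hg : g ∈ perp D a) (hge : g ∈ perp D e)
    (hk : k ∈ perp D a) (hke : k ∈ perp D e) (hn : ¬ Commute g k) :
    ∃ w ∈ perp D a, w ∈ perp D e ∧ w ∈ perp D g ∧ w ∈ perp D k := by
  have KB := B.sub a ha
  have qe := pr_mem he
  have qg : pr D a g hg ∈ perp (perpSet D a) (pr D a e he) := (M24.toK B ha he hg).2 hge
  have qk : pr D a k hk ∈ perp (perpSet D a) (pr D a e he) := (M24.toK B ha he hk).2 hke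
  obtain ⟨v, hv⟩ := (KB.ctx _ qe).meets _ (pr_mem qg) _ (pr_mem qk) fun k' =>
    hn (commute_of_pr B.set.cls B.set.tf ha hg hk (commute_of_pr KB.set.cls KB.set.tf qe qg qk k'))
  obtain ⟨w', hw', rfl⟩ := exists_of_mem hv.1.1
  obtain ⟨w, hw, rfl⟩ := exists_of_mem hw'.1
  exact ⟨w, hw, (M24.toK B ha he hw).1 hw', (M24.toK B ha hg hw).1 ((M23.toK KB qe qg hw').1 hv.1),
    (M24.toK B ha hk hw).1 ((M23.toK KB qe qk hw').1 hv.2)⟩

omit B in
/-- The star of `a` goes to the star of `b`. -/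
def Img (α : MulAut ↥(commutator G)) (D : Set G) (a b : G) : Prop :=
  ∀ e ∈ perp D a, ∀ x : ↥(commutator G), (x : G) = a * e → Mem D (α x) b

variable (α : MulAut ↥(commutator G))

/-- The image of the pair of `a` and `e`. -/
theorem exists_edge {a e c : G} (ha : a ∈ D) (he : e ∈ perp D a) (hc : c ∈ perp D a) (hec : c ∈ perp D e) :
    ∃ p q r, q ∈ perp D p ∧ r ∈ perp D p ∧ r ∈ perp D q ∧ p ∈ D ∧
      ((α ⟨a * e, pair_mem B ha he⟩ : ↥(commutator G)) : G) = p * q ∧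
      ((α ⟨a * c, pair_mem B ha hc⟩ : ↥(commutator G)) : G) = p * r := by
  obtain ⟨p, q, r, hp, hq, hqr, hr, e1, e2⟩ := share_of_rel B (isP_map α (pair_isP B ha he))
    (isP_map α (pair_isP B ha hc)) (rel_map α (rel_of_share B ha he hc hec))
  exact ⟨p, q, r, hq, hr, hqr, hp, e1, e2⟩

/-- A common member of two related images lies in the image of the third pair of the triangle. -/
theorem triangle {a e c g u : G} (ha : a ∈ D) (he : e ∈ perp D a) (hc : c ∈ perp D a) (hg : g ∈ perp D a)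
    (hec : c ∈ perp D e) (heg : g ∈ perp D e) (hcg : g ∈ perp D c)
    (hu1 : Mem D (α ⟨a * e, pair_mem B ha he⟩ : ↥(commutator G)) u)
    (hu2 : Mem D (α ⟨a * c, pair_mem B ha hc⟩ : ↥(commutator G)) u) :
    Mem D (α ⟨a * g, pair_mem B ha hg⟩ : ↥(commutator G)) u := by
  have h := B.set.cls
  obtain ⟨p, q, r, hq, hr, hqr, hp, e1, e2⟩ := exists_edge B α ha he hc hec
  have hup : u = p := by
    rw [e1, mem_iff B hp hq] at hu1
    rw [e2, mem_iff B hp hr] at hu2
    rcases hu1 with k | k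
    · exact k
    rcases hu2 with k' | k'
    · exact k'
    exact absurd (k'.symm.trans k) hqr.2.1
  subst hup
  by_contra hno
  obtain ⟨s, s1, s2, hs1, hs2, -, hs, f1, f2⟩ := exists_edge B α ha he hg heg
  obtain ⟨t, t1, t2, ht1, ht2, -, ht, g1, g2⟩ := exists_edge B α ha hc hg hcg
  have hs' : Mem D (α ⟨a * g, pair_mem B ha hg⟩ : ↥(commutator G)) s := f2 ▸ (mem_iff B hs hs2).2 (Or.inl rfl)
  have ht' : Mem D (α ⟨a * g, pair_mem B ha hg⟩ : ↥(commutator G)) t := g2 ▸ (mem_iff B ht ht2).2 (Or.inl rfl)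
  have hsq : s = q := by
    have k : Mem D (α ⟨a * e, pair_mem B ha he⟩ : ↥(commutator G)) s := f1 ▸ (mem_iff B hs hs1).2 (Or.inl rfl)
    rw [e1, mem_iff B hp hq] at k
    exact k.resolve_left fun k' => hno (k' ▸ hs')
  have htr : t = r := by
    have k : Mem D (α ⟨a * c, pair_mem B ha hc⟩ : ↥(commutator G)) t := g1 ▸ (mem_iff B ht ht1).2 (Or.inl rfl)
    rw [e2, mem_iff B hp hr] at k
    exact k.resolve_left fun k' => hno (k' ▸ ht')
  subst hsq htr
  obtain ⟨-, k⟩ := mem_two B hs' ht' (Ne.symm hqr.2.1)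
  have key : (α ⟨a * g, pair_mem B ha hg⟩ : ↥(commutator G)) =
      α (⟨a * e, pair_mem B ha he⟩ * ⟨a * c, pair_mem B ha hc⟩) := Subtype.ext (by
    rw [map_mul, Subgroup.coe_mul, k, e1, e2, hq.2.2.eq, mul_assoc, ← mul_assoc u u, mul_self h.1 hp, one_mul])
  have key' : a * g = e * c := by
    have := congrArg Subtype.val (α.injective key)
    simp only [Subgroup.coe_mul] at this
    rw [this, he.2.2.eq, mul_assoc, ← mul_assoc a a, mul_self h.1 ha, one_mul]
  rcases (mem_iff B he.1 hec).1 (key' ▸ (mem_iff B ha hg).2 (Or.inl rfl)) with rfl | rfl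
  · exact he.2.1 rfl
  · exact hc.2.1 rfl

/-- Every star goes to a star. -/
theorem exists_img {a : G} (ha : a ∈ D) : ∃ b ∈ D, Img α D a b := by
  obtain ⟨e₀, he₀⟩ := B.set.perp_ne a ha
  obtain ⟨c₀, hc₀⟩ := M24.common_ne B ha he₀.1 (Ne.symm he₀.2.1)
  obtain ⟨p, q, r, hq, hr, hqr, hp, e1, e2⟩ := exists_edge B α ha he₀ hc₀.1 hc₀.2
  refine ⟨p, hp, ?_⟩
  set S : Set G := {e | ∃ he : e ∈ perp D a, Mem D (α ⟨a * e, pair_mem B ha he⟩ : ↥(commutator G)) p}
  have he0S : e₀ ∈ S := ⟨he₀, e1 ▸ (mem_iff B hp hq).2 (Or.inl rfl)⟩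
  have hc0S : c₀ ∈ S := ⟨hc₀.1, e2 ▸ (mem_iff B hp hr).2 (Or.inl rfl)⟩
  have step : ∀ {e c g}, e ∈ S → c ∈ S → c ∈ perp D e → g ∈ perp D a → g ∈ perp D e → g ∈ S := by
    intro e c g ⟨he, me⟩ ⟨hc, mc⟩ hec hg heg
    have tri : ∀ {c g}, ∀ hc : c ∈ perp D a, Mem D (α ⟨a * c, pair_mem B ha hc⟩ : ↥(commutator G)) p →
        c ∈ perp D e → ∀ hg : g ∈ perp D a, g ∈ perp D e → g ∈ perp D c →
        Mem D (α ⟨a * g, pair_mem B ha hg⟩ : ↥(commutator G)) p := fun hc mc hec hg heg hcg =>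
      triangle B α ha he hc hg hec heg hcg me mc
    by_cases e' : g = c
    · subst e'; exact ⟨hg, mc⟩
    by_cases k : Commute c g
    · exact ⟨hg, tri hc mc hec hg heg ⟨hg.1, e', k⟩⟩
    obtain ⟨w, hw, hwe, hwc, hwg⟩ := meet_three B ha he hc hec hg heg k
    exact ⟨hg, tri hw (tri hc mc hec hw hwe hwc) hwe hg heg (M22.perp_symm hg.1 hwg)⟩
  intro e he x hx
  obtain ⟨he', hm⟩ : e ∈ S := by
    by_cases k0 : e = e₀
    · exact k0 ▸ he0S
    by_cases k : Commute e₀ e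
    · exact step he0S hc0S hc₀.2 he ⟨he.1, k0, k⟩
    obtain ⟨w, hw, hwe₀, hwe⟩ := meet_two B ha he₀ he k
    have hwS := step he0S hc0S hc₀.2 hw hwe₀
    exact step hwS he0S (M22.perp_symm he₀.1 hwe₀) he (M22.perp_symm he.1 hwe)
  rwa [show x = ⟨a * e, pair_mem B ha he'⟩ from Subtype.ext hx]

theorem img_unique {a b b' : G} (ha : a ∈ D) (h : Img α D a b) (h' : Img α D a b') : b = b' := by
  by_contra hne
  obtain ⟨e, he⟩ := B.set.perp_ne a ha
  obtain ⟨c, hc⟩ := M24.common_ne B ha he.1 (Ne.symm he.2.1)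
  have k1 := mem_two B (h e he ⟨_, pair_mem B ha he⟩ rfl) (h' e he ⟨_, pair_mem B ha he⟩ rfl) hne
  have k2 := mem_two B (h c hc.1 ⟨_, pair_mem B ha hc.1⟩ rfl) (h' c hc.1 ⟨_, pair_mem B ha hc.1⟩ rfl) hne
  exact hc.2.2.1 (mul_left_cancel (congrArg Subtype.val (α.injective (Subtype.ext (k1.2.trans k2.2.symm))))).symm

/-- The images of two commuting members. -/
theorem img_pair {a e b b' : G} (ha : a ∈ D) (he : e ∈ perp D a) (hb : Img α D a b) (hb' : Img α D e b')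
    {x : ↥(commutator G)} (hx : (x : G) = a * e) : b' ∈ perp D b ∧ ((α x : ↥(commutator G)) : G) = b * b' := by
  have h := B.set.cls
  have m1 := hb e he x hx
  have m2 := hb' a (M22.perp_symm ha he) x (hx.trans he.2.2.eq)
  refine mem_two B m1 m2 fun heq => ?_
  subst heq
  obtain ⟨c, hc⟩ := M24.common_ne B ha he.1 (Ne.symm he.2.1)
  obtain ⟨v, hv, ev⟩ := m1.2
  obtain ⟨w, hw, ew⟩ := (hb c hc.1 ⟨_, pair_mem B ha hc.1⟩ rfl).2
  obtain ⟨w', hw', ew'⟩ := (hb' c hc.2 ⟨_, pair_mem B he.1 hc.2⟩ rfl).2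
  have key : v * w = b * w' := by
    have k : (⟨e * c, pair_mem B he.1 hc.2⟩ : ↥(commutator G)) = x * ⟨a * c, pair_mem B ha hc.1⟩ :=
      Subtype.ext (by
        show e * c = (x : G) * (a * c)
        rw [hx, he.2.2.eq, mul_assoc, ← mul_assoc a a, mul_self h.1 ha, one_mul])
    rw [ew', k, map_mul, Subgroup.coe_mul, ← ev, ← ew, hv.2.2.eq, mul_assoc, ← mul_assoc b b,
      mul_self h.1 m1.1, one_mul]
  have hvw : v ≠ w := fun k => by
    have k' : v * w = 1 := by rw [k, mul_self h.1 hw.1]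
    rw [key, mul_eq_one_iff_eq_inv, inv_eq h.1 hw'.1] at k'
    exact hw'.2.1 k'.symm
  have kvw : Commute v w := by
    have k : (v * w) * (v * w) = 1 := by
      rw [key, ← pow_two, sq_of_commute h m1.1 hw'.1 hw'.2.2]
    show v * w = w * v
    rw [eq_inv_of_mul_eq_one_left k, mul_inv_rev, inv_eq h.1 hv.1, inv_eq h.1 hw.1]
  rcases uniq2 h B.set.tf m1.1 hw'.1 hv.1 hw.1 (Ne.symm hw'.2.1) hvw hw'.2.2 kvw key.symm with k | k
  · exact hv.2.1 k.symm
  · exact hw.2.1 k.symm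

end Cfsg.Agent.Grp.M24Aut
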